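import Mathlib

/-!
The 77 blocks of a Steiner system S(3, 6, 22) as masks, and a permutation of the 100 vertices of its
point-block graph moving the extra vertex to a point.
-/

namespace Cfsg.Agent.GroupStructure3.HSAut

/-- The block masks. -/
def blockList : List ℕ :=
  [1319, 4536, 11289, 14470, 17348, 35041, 46400, 52738, 68148, 74506,
   88136, 114961, 137985, 140960, 155715, 164440, 184356, 196749, 201746, 263370,
   266325, 279081, 297228, 303154, 353284, 365184, 411792, 459104, 528994, 540702,
   545921, 551200, 565765, 598224, 623656, 658500, 688514, 788240, 854019, 929800,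
   1049235, 1054220, 1066096, 1106056, 1117568, 1126433, 1146950, 1181738, 1188116, 1321536,
   1331458, 1475585, 1573193, 1611792, 1786368, 1835172, 2099538, 2105452, 2126352, 2131092,
   2134027, 2164289, 2179234, 2245896, 2336768, 2366496, 2367873, 2490886, 2624136, 2691332,
   2752561, 2932800, 3164165, 3179296, 3281088, 3473432, 3679234]

/-- The images of the vertices: the extra vertex, the points, the blocks. -/
def moveList : List ℕ :=
  [1, 0, 23, 37, 40, 44, 61, 53, 93, 63,
   68, 83, 75, 95, 25, 84, 55, 35, 74, 34,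
   89, 28, 43, 2, 29, 4, 48, 45, 20, 50,
   49, 82, 94, 46, 10, 21, 27, 11, 79, 24,
   18, 56, 72, 15, 17, 88, 97, 78, 42, 26,
   80, 38, 76, 22, 39, 14, 69, 65, 31, 33,
   58, 9, 51, 6, 60, 71, 73, 47, 12, 98,
   81, 92, 90, 62, 16, 8, 41, 52, 64, 87,
   96, 59, 67, 3, 13, 66, 54, 85, 36, 5,
   91, 30, 57, 19, 70, 7, 86, 32, 99, 77]

end Cfsg.Agent.GroupStructure3.HSAut
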