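import Mathlib
import Cfsg.Agent.GroupStructure3.HSAut.Data
import Cfsg.Prelude.Def_Sporadic_a
import Cfsg.Agent.Lib.Golay.PointBlockEqns

/-!
A concrete S(3, 6, 22) and an automorphism of its point-block graph moving the extra vertex.
-/

set_option autoImplicit false
set_option maxRecDepth 100000
set_option maxHeartbeats 1000000

namespace Cfsg.Agent.GroupStructure3.HSAut

/-- Incidence of point `a` and block number `k`. -/
def tb (k : Fin 77) (a : Fin 22) : Bool := (blockList.getD k.1 0).testBit a.1

/-- The `k`-th block. -/
def blk (k : Fin 77) : Finset (Fin 22) := Finset.univ.filter fun a => tb k a = true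

theorem mem_blk {k : Fin 77} {a : Fin 22} : a ∈ blk k ↔ tb k a = true := by simp [blk]

/-- The model. -/
def M : Set (Finset (Fin 22)) := Set.range blk

theorem blk_card : ∀ k, (blk k).card = 6 := by decide +kernel

theorem blk_separated : ∀ k l : Fin 77, k = l ∨ ∃ a, tb k a ≠ tb l a := by decide +kernel

theorem blk_injective : Function.Injective blk := fun k l h => by
  rcases blk_separated k l with h' | ⟨a, ha⟩
  · exact h'
  · refine absurd ?_ ha
    rw [Bool.eq_iff_iff, ← mem_blk, ← mem_blk, h]

/-- Blocks through three given points. -/
def through (a b c : Fin 22) : List (Fin 77) :=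
  (List.finRange 77).filter fun k => tb k a && tb k b && tb k c

theorem through_one : ∀ a b c : Fin 22, a < b → b < c → (through a b c).length = 1 := by
  decide +kernel

theorem steiner : Cfsg.IsSteinerSystem 3 6 M := by
  refine ⟨?_, fun s hs => ?_⟩
  · rintro _ ⟨k, rfl⟩
    exact blk_card k
  · let f := s.orderEmbOfFin hs
    have hsub : ∀ k, s ⊆ blk k ↔ k ∈ through (f 0) (f 1) (f 2) := by
      intro k
      rw [through, List.mem_filter]
      simp only [List.mem_finRange, true_and, Bool.and_eq_true, ← mem_blk]
      constructor
      · intro h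
        exact ⟨⟨h (Finset.orderEmbOfFin_mem s hs 0), h (Finset.orderEmbOfFin_mem s hs 1)⟩,
          h (Finset.orderEmbOfFin_mem s hs 2)⟩
      · rintro ⟨⟨h0, h1⟩, h2⟩ x hx
        obtain ⟨i, rfl⟩ : x ∈ Set.range f := by rw [Finset.range_orderEmbOfFin]; exact hx
        fin_cases i <;> assumption
    obtain ⟨k, hk⟩ := List.length_eq_one_iff.1
      (through_one (f 0) (f 1) (f 2) (f.strictMono (by decide)) (f.strictMono (by decide)))
    refine ⟨blk k, ⟨⟨k, rfl⟩, (hsub k).2 (by rw [hk]; exact List.mem_singleton_self k)⟩, ?_⟩
    rintro _ ⟨⟨l, rfl⟩, hl⟩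
    have := (hsub l).1 hl
    rw [hk, List.mem_singleton] at this
    rw [this]

/-- Vertices. -/
abbrev W : Type := Option (Fin 22 ⊕ Fin 77)

/-- Adjacency as a Boolean. -/
def adjB : W → W → Bool
  | none, none => false
  | none, some (.inl _) => true
  | none, some (.inr _) => false
  | some (.inl _), none => true
  | some (.inr _), none => false
  | some (.inl _), some (.inl _) => false
  | some (.inl a), some (.inr k) => tb k a
  | some (.inr k), some (.inl a) => tb k a
  | some (.inr k), some (.inr l) => decide (∀ a : Fin 22, !(tb k a && tb l a) = true)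

/-- The number of a vertex. -/
def code : W → ℕ
  | none => 0
  | some (.inl a) => 1 + a.1
  | some (.inr k) => 23 + k.1

/-- The vertex with a given number. -/
def vert (i : ℕ) : W :=
  if h : 1 ≤ i ∧ i < 23 then some (.inl ⟨i - 1, by omega⟩)
  else if h : 23 ≤ i ∧ i < 100 then some (.inr ⟨i - 23, by omega⟩) else none

/-- The extra automorphism. -/
def move (w : W) : W := vert (moveList.getD (code w) 0)

theorem move_injective : ∀ v w : W, move v = move w → v = w := by decide +kernel

theorem move_adj : ∀ v w : W, adjB (move v) (move w) = adjB v w := by decide +kernel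

theorem move_none : move none = some (.inl 0) := by decide +kernel

theorem move_point : ∃ a : Fin 22, ∃ k : Fin 77, move (some (.inl a)) = some (.inr k) := by
  decide +kernel

theorem move_bijective : Function.Bijective move :=
  Finite.injective_iff_bijective.1 fun v w => move_injective v w

/-- The vertices of the graph of `M`. -/
noncomputable def toV : W ≃ Option (Fin 22 ⊕ M) :=
  (Equiv.sumCongr (Equiv.refl _) (Equiv.ofInjective blk blk_injective)).optionCongr

theorem toV_none : toV none = none := rfl
theorem toV_point (a : Fin 22) : toV (some (.inl a)) = some (.inl a) := rfl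
theorem toV_block (k : Fin 77) : toV (some (.inr k)) = some (.inr ⟨blk k, k, rfl⟩) := rfl

theorem adjB_blocks (k l : Fin 77) :
    adjB (some (.inr k)) (some (.inr l)) = true ↔ Disjoint (blk k) (blk l) := by
  rw [Finset.disjoint_left]
  simp only [adjB, mem_blk, decide_eq_true_eq]
  exact forall_congr' fun a => by cases tb k a <;> cases tb l a <;> simp

theorem adj_iff (v w : W) :
    (Cfsg.pointBlockGraph M).Adj (toV v) (toV w) ↔ adjB v w = true := by
  rw [Cfsg.pointBlockGraph, SimpleGraph.fromRel_adj]
  rcases v with _ | (a | k) <;> rcases w with _ | (b | l) <;>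
    simp only [toV_none, toV_point, toV_block, Cfsg.pointBlockRel, ne_eq, reduceCtorEq,
      not_false_eq_true, not_true_eq_false, true_and, false_and, or_false, false_or, or_self]
  all_goals try (simp [adjB, mem_blk]; done)
  rw [adjB_blocks]
  constructor
  · rintro ⟨-, h | h⟩
    · exact h
    · exact h.symm
  · intro hd
    refine ⟨fun e => ?_, Or.inl hd⟩
    have e' : k = l := blk_injective (congrArg Subtype.val (Sum.inr_injective (Option.some_injective _ e)))
    subst e'
    rw [disjoint_self, Finset.bot_eq_empty] at hd
    have := blk_card k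
    rw [hd] at this
    simp at this

/-- The extra automorphism of the graph of `M`. -/
noncomputable def moveIso : Cfsg.pointBlockGraph M ≃g Cfsg.pointBlockGraph M where
  toEquiv := (toV.symm.trans (Equiv.ofBijective move move_bijective)).trans toV
  map_rel_iff' := by
    intro v w
    obtain ⟨v, rfl⟩ := toV.surjective v
    obtain ⟨w, rfl⟩ := toV.surjective w
    simp only [Equiv.trans_apply, Equiv.symm_apply_apply, Equiv.ofBijective_apply, adj_iff,
      move_adj]

end Cfsg.Agent.GroupStructure3.HSAut
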