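import Mathlib
import Cfsg.Agent.GroupStructure3.HSAut.Model
import Cfsg.Agent.Lib.Golay.Derived22

/-!
The automorphism group of the point-block graph of an S(3, 6, 22).
-/

set_option autoImplicit false

namespace Cfsg.Agent.GroupStructure3.HSAut

open scoped Pointwise
open Cfsg

variable {α : Type*} [Fintype α] [DecidableEq α] {B : Set (Finset α)}

theorem adj_none_point (a : α) :
    (pointBlockGraph B).Adj none (some (Sum.inl a)) := by
  simp [pointBlockGraph, pointBlockRel]

theorem not_adj_none_block (b : B) :
    ¬ (pointBlockGraph B).Adj none (some (Sum.inr b)) := by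
  simp [pointBlockGraph, pointBlockRel]

theorem adj_point_block (a : α) (b : B) :
    (pointBlockGraph B).Adj (some (Sum.inl a)) (some (Sum.inr b)) ↔ a ∈ (b : Finset α) := by
  simp [pointBlockGraph, pointBlockRel]

/-- The permutation of the blocks. -/
def blockEquiv (g : setSystemAut B) : B ≃ B where
  toFun b := ⟨(g : Equiv.Perm α) • (b : Finset α), by
    have := Set.smul_mem_smul_set (a := (g : Equiv.Perm α)) b.2
    rwa [MulAction.mem_stabilizer_iff.1 g.2] at this⟩
  invFun b := ⟨(g : Equiv.Perm α)⁻¹ • (b : Finset α), by
    have := Set.smul_mem_smul_set (a := (g : Equiv.Perm α)⁻¹) b.2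
    rwa [MulAction.mem_stabilizer_iff.1 (inv_mem g.2)] at this⟩
  left_inv b := Subtype.ext (inv_smul_smul _ _)
  right_inv b := Subtype.ext (smul_inv_smul _ _)

/-- The graph automorphism of a design automorphism. -/
def lift (g : setSystemAut B) : pointBlockGraph B ≃g pointBlockGraph B where
  toEquiv := ((Equiv.sumCongr (g : Equiv.Perm α) (blockEquiv g)).optionCongr :
    Option (α ⊕ B) ≃ Option (α ⊕ B))
  map_rel_iff' := by
    intro v w
    rcases v with _ | (a | b) <;> rcases w with _ | (a' | b') <;>
      simp [pointBlockGraph, pointBlockRel, blockEquiv, disjoint_iff]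
    all_goals
      simp [← Finset.smul_finset_inter, ← Equiv.Perm.smul_def, Finset.smul_mem_smul_finset_iff,
        Subtype.ext_iff]

theorem lift_none (g : setSystemAut B) : lift g none = none := rfl

theorem lift_point (g : setSystemAut B) (a : α) :
    lift g (some (Sum.inl a)) = some (Sum.inl ((g : Equiv.Perm α) a)) := rfl

theorem lift_block (g : setSystemAut B) (b : B) :
    lift g (some (Sum.inr b)) = some (Sum.inr (blockEquiv g b)) := rfl

theorem lift_injective : Function.Injective (lift (B := B)) := fun g h e => by
  refine Subtype.ext (Equiv.ext fun a => ?_)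
  have := DFunLike.congr_fun e (some (Sum.inl a))
  rw [lift_point, lift_point] at this
  exact Sum.inl_injective (Option.some_injective _ this)

theorem exists_lift (f : pointBlockGraph B ≃g pointBlockGraph B) (hf : f none = none) :
    ∃ g : setSystemAut B, lift g = f := by
  classical
  have hne : ∀ x, x ≠ none → f x ≠ none := fun x hx h => hx (f.injective (h.trans hf.symm))
  have hpt : ∀ a : α, ∃ a', f (some (Sum.inl a)) = some (Sum.inl a') := fun a => by
    rcases h : f (some (Sum.inl a)) with _ | (a' | b)
    · exact absurd h (hne _ (by simp))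
    · exact ⟨a', rfl⟩
    · refine absurd ?_ (not_adj_none_block b)
      rw [← h, ← hf]
      exact f.map_rel_iff.2 (adj_none_point a)
  have hbl : ∀ b : B, ∃ b', f (some (Sum.inr b)) = some (Sum.inr b') := fun b => by
    rcases h : f (some (Sum.inr b)) with _ | (a | b')
    · exact absurd h (hne _ (by simp))
    · have h1 := adj_none_point (B := B) a
      rw [← h, ← hf] at h1
      exact absurd (f.map_rel_iff.1 h1) (not_adj_none_block b)
    · exact ⟨b', rfl⟩
  choose g hg using hpt
  choose t ht using hbl
  have hginj : Function.Injective g := fun a a' e => by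
    have h1 : f (some (Sum.inl a)) = f (some (Sum.inl a')) := by rw [hg, hg, e]
    simpa using f.injective h1
  let σ : Equiv.Perm α := Equiv.ofBijective g (Finite.injective_iff_bijective.1 hginj)
  have hmem : ∀ a b, g a ∈ (t b : Finset α) ↔ a ∈ (b : Finset α) := fun a b => by
    rw [← adj_point_block, ← adj_point_block, ← hg, ← ht]
    exact f.map_rel_iff
  have ht' : ∀ b : B, (t b : Finset α) = σ • (b : Finset α) := fun b => by
    ext x
    obtain ⟨a, rfl⟩ := (Equiv.surjective σ) x
    rw [← Equiv.Perm.smul_def, Finset.smul_mem_smul_finset_iff, Equiv.Perm.smul_def]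
    exact hmem a b
  have hσ : σ • B = B := by
    refine Set.eq_of_subset_of_ncard_le ?_ (le_of_eq (Set.ncard_smul_set σ B).symm) (Set.toFinite _)
    rintro _ ⟨b, hb, rfl⟩
    show σ • b ∈ B
    rw [← ht' ⟨b, hb⟩]
    exact (t _).2
  refine ⟨⟨σ, MulAction.mem_stabilizer_iff.2 hσ⟩, DFunLike.ext _ _ fun x => ?_⟩
  rcases x with _ | (a | b)
  · rw [lift_none, hf]
  · rw [lift_point, hg]; rfl
  · rw [lift_block, ht]
    exact congrArg (some ∘ Sum.inr) (Subtype.ext (ht' b).symm)

theorem model_card :
    Nat.card (pointBlockGraph M ≃g pointBlockGraph M) = 88704000 := by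
  classical
  obtain ⟨hcard, htrans, -⟩ := Golay.Derived22.aut (α := Fin 22) (by simp) steiner
  let A := pointBlockGraph M ≃g pointBlockGraph M
  let V := Option (Fin 22 ⊕ M)
  have hstab : Nat.card (MulAction.stabilizer A (none : V)) = 887040 := by
    rw [← hcard]
    refine (Nat.card_congr (Equiv.ofBijective
      (fun g : setSystemAut M => (⟨lift g, lift_none g⟩ : MulAction.stabilizer A (none : V)))
      ⟨fun g h e => lift_injective (congrArg Subtype.val e), fun f => ?_⟩)).symm
    obtain ⟨g, hg⟩ := exists_lift f.1 f.2
    exact ⟨g, Subtype.ext hg⟩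
  have h1 : MulAction.IsPretransitive (setSystemAut M) (Fin 22) := by
    haveI := htrans
    haveI : MulAction.IsMultiplyPretransitive (setSystemAut M) (Fin 22) 1 :=
      MulAction.isMultiplyPretransitive_of_le (n := 3) (by norm_num) (by simp)
    exact MulAction.is_one_pretransitive_iff.1 inferInstance
  have hmove0 : moveIso none = some (Sum.inl 0) := by
    show toV (move (toV.symm none)) = _
    rw [show toV.symm none = none from toV.symm_apply_eq.2 toV_none.symm, move_none]
    rfl
  have hp : ∀ a : Fin 22, (some (Sum.inl a) : V) ∈ MulAction.orbit A (none : V) := fun a => by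
    obtain ⟨g, hg⟩ := h1.exists_smul_eq (0 : Fin 22) a
    refine ⟨lift g * moveIso, ?_⟩
    show lift g (moveIso none) = _
    rw [hmove0, lift_point]
    exact congrArg (some ∘ Sum.inl) hg
  have hall : MulAction.orbit A (none : V) = Set.univ := by
    refine Set.eq_univ_of_forall fun v => ?_
    rcases v with _ | (a | c)
    · exact MulAction.mem_orbit_self _
    · exact hp a
    · obtain ⟨a₀, k₀, hk₀⟩ := move_point
      have hb₀ : moveIso (some (Sum.inl a₀)) = some (Sum.inr ⟨blk k₀, k₀, rfl⟩) := by
        show toV (move (toV.symm _)) = _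
        rw [show toV.symm (some (Sum.inl a₀)) = some (Sum.inl a₀) from
          toV.symm_apply_eq.2 (toV_point a₀).symm, hk₀, toV_block]
      obtain ⟨T, hTsub, hT⟩ := Finset.exists_subset_card_eq
        (show 3 ≤ (blk k₀).card by rw [blk_card]; norm_num)
      obtain ⟨T', hTsub', hT'⟩ := Finset.exists_subset_card_eq
        (show 3 ≤ (c : Finset (Fin 22)).card by rw [steiner.1 _ c.2]; norm_num)
      haveI := htrans
      obtain ⟨g, hg⟩ := MulAction.exists_smul_eq (setSystemAut M)
        (T.orderEmbOfFin hT).toEmbedding (T'.orderEmbOfFin hT').toEmbedding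
      have hgk : blockEquiv g ⟨blk k₀, k₀, rfl⟩ = c := by
        refine Subtype.ext ((steiner.2 T' hT').unique ⟨(blockEquiv g _).2, fun x hx => ?_⟩
          ⟨c.2, hTsub'⟩)
        obtain ⟨i, rfl⟩ : x ∈ Set.range (T'.orderEmbOfFin hT') := by
          rw [Finset.range_orderEmbOfFin]; exact hx
        rw [show T'.orderEmbOfFin hT' i = g • T.orderEmbOfFin hT i from
          (DFunLike.congr_fun hg i).symm]
        exact Finset.smul_mem_smul_finset (hTsub (Finset.orderEmbOfFin_mem T hT i))
      obtain ⟨f, hf⟩ := hp a₀
      refine ⟨lift g * moveIso * f, ?_⟩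
      show lift g (moveIso (f none)) = _
      rw [show f none = some (Sum.inl a₀) from hf, hb₀, lift_block, hgk]
  have hV : Nat.card V = 100 := by
    rw [Finite.card_option, Nat.card_sum, Nat.card_eq_fintype_card (α := Fin 22),
      Fintype.card_fin, show Nat.card M = Nat.card (Fin 77) from
        Nat.card_congr (Equiv.ofInjective blk blk_injective).symm,
      Nat.card_eq_fintype_card, Fintype.card_fin]
  have := MulAction.index_stabilizer A (none : V)
  rw [hall, Set.ncard_univ, hV] at this
  show Nat.card A = _
  rw [← Subgroup.card_mul_index (MulAction.stabilizer A (none : V)), hstab, this]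

/-- Isomorphic families give isomorphic graphs. -/
def graphIso {β : Type*} [DecidableEq β] {B' : Set (Finset β)} (e : α ≃ β)
    (he : ∀ b, b ∈ B ↔ b.image e ∈ B') : pointBlockGraph B ≃g pointBlockGraph B' where
  toEquiv := ((Equiv.sumCongr e (Equiv.subtypeEquiv (Equiv.finsetCongr e)
    fun b => by rw [he]; simp [Finset.map_eq_image])).optionCongr :
      Option (α ⊕ B) ≃ Option (β ⊕ B'))
  map_rel_iff' := by
    intro v w
    rcases v with _ | (a | b) <;> rcases w with _ | (a' | b') <;>
      simp [pointBlockGraph, pointBlockRel, Subtype.ext_iff]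

theorem card_aut (hα : Fintype.card α = 22) (hB : IsSteinerSystem 3 6 B) :
    Nat.card (pointBlockGraph B ≃g pointBlockGraph B) = 88704000 := by
  obtain ⟨e, he⟩ := Golay.Derived22.iso hα (by simp) hB steiner
  let i := graphIso e (Golay.DesignIso.mem_iff he)
  rw [← model_card]
  refine Nat.card_congr ⟨fun f => (i.symm.trans f).trans i, fun f => (i.trans f).trans i.symm, ?_, ?_⟩
  · intro f; ext x; simp
  · intro f; ext x; simp

end Cfsg.Agent.GroupStructure3.HSAut
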